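import Groth.Agent.KleimanFlatLib.Main

/-!
# Translations, and components of spaces of constant local dimension
-/

set_option autoImplicit false
set_option backward.isDefEq.respectTransparency false

universe u

open CategoryTheory CategoryTheory.Limits MonoidalCategory CartesianMonoidalCategory AlgebraicGeometry TopologicalSpace
open scoped MonObj

noncomputable section

namespace KleimanFlatLib

variable {S : Scheme.{u}} {G X : Over S} [GrpObj G]

/-- Translation by a point. -/
def tr (a : AlgGrp.Action G X) (σ : 𝟙_ (Over S) ⟶ G) : X ⟶ X :=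
  lift (toUnit X ≫ σ) (𝟙 X) ≫ a.act

theorem tr_comp (a : AlgGrp.Action G X) (σ ρ : 𝟙_ (Over S) ⟶ G) : tr a σ ≫ tr a ρ = tr a (ρ * σ) := by
  have h1 : tr a σ ≫ tr a ρ = lift (toUnit X ≫ ρ) (tr a σ) ≫ a.act := by
    unfold tr
    rw [← Category.assoc, comp_lift, Category.comp_id]
    congr 2
    rw [← Category.assoc (lift _ _ ≫ a.act)]
    congr 1
    exact toUnit_unique _ _
  rw [h1]
  unfold tr
  have h2 : toUnit X ≫ (ρ * σ) = lift (toUnit X ≫ ρ) (toUnit X ≫ σ) ≫ μ[G] := by
    rw [MonObj.comp_mul]; rfl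
  rw [h2]
  conv_rhs => rw [← lift_whiskerRight, Category.assoc, a.mul_act, lift_lift_associator_hom_assoc, lift_whiskerLeft_assoc]

theorem tr_one (a : AlgGrp.Action G X) : tr a 1 = 𝟙 X := by
  unfold tr
  have h : lift (toUnit X ≫ (1 : 𝟙_ (Over S) ⟶ G)) (𝟙 X) = (λ_ X).inv ≫ (η[G] ▷ X) := by
    refine CartesianMonoidalCategory.hom_ext _ _ ?_ ?_
    · rw [lift_fst, Category.assoc, whiskerRight_fst, leftUnitor_inv_fst_assoc, MonObj.comp_one]
      rfl
    · simp
  rw [h, Category.assoc, a.one_act, Iso.inv_hom_id]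

instance isIso_tr (a : AlgGrp.Action G X) (σ : 𝟙_ (Over S) ⟶ G) : IsIso (tr a σ) :=
  ⟨tr a σ⁻¹, by rw [tr_comp, inv_mul_cancel, tr_one], by rw [tr_comp, mul_inv_cancel, tr_one]⟩

/-- If all local dimensions are `b`, all irreducible components have dimension `b`. -/
theorem topologicalKrullDim_component {A : Type u} [TopologicalSpace A] [NoetherianSpace A] {b : ℕ}
    (h : ∀ a : A, FlatMor.localDim A a = b) {C : Set A} (hC : C ∈ irreducibleComponents A) :
    topologicalKrullDim C = (b : WithBot ℕ∞) := by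
  refine le_antisymm ((topologicalKrullDim_subspace_le A C).trans ?_) ?_
  · rw [FibDimLib.topologicalKrullDim_eq_iSup_localDim]
    exact iSup_le fun a ↦ (h a).le
  · let others : Set (Set A) := irreducibleComponents A \ {C}
    have hfin : others.Finite := NoetherianSpace.finite_irreducibleComponents.subset Set.diff_subset
    have hcl : IsClosed (⋃₀ others) := by
      rw [Set.sUnion_eq_biUnion]
      exact hfin.isClosed_biUnion fun Z hZ ↦ isClosed_of_mem_irreducibleComponents Z hZ.1
    have hne : ¬C ⊆ ⋃₀ others := by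
      intro hs
      obtain ⟨Z, hZ, hCZ⟩ := (isIrreducible_iff_sUnion_isClosed.mp hC.1) hfin.toFinset
        (fun Z hZ ↦ isClosed_of_mem_irreducibleComponents Z (hfin.mem_toFinset.mp hZ).1)
        (by rwa [hfin.coe_toFinset])
      rw [hfin.mem_toFinset] at hZ
      exact hZ.2 (Set.mem_singleton_iff.mpr (subset_antisymm (hC.2 hZ.1.1 hCZ) hCZ))
    obtain ⟨p, -, hp⟩ := Set.not_subset.mp hne
    let U : Opens A := ⟨(⋃₀ others)ᶜ, hcl.isOpen_compl⟩
    have hUC : (U : Set A) ⊆ C := by
      intro a ha
      by_contra haC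
      refine ha ⟨irreducibleComponent a, ⟨irreducibleComponent_mem_irreducibleComponents a, ?_⟩,
        mem_irreducibleComponent⟩
      exact fun e ↦ haC ((Set.mem_singleton_iff.mp e) ▸ mem_irreducibleComponent)
    rw [← h p]
    refine (FibDimLib.localDim_le_of_open (show p ∈ U from hp)).trans ?_
    exact (Topology.IsEmbedding.inclusion hUC).isInducing.topologicalKrullDim_le

end KleimanFlatLib
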